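import Mathlib
import Cfsg.Agent.Lib.Helper97.FullVec

set_option autoImplicit false
set_option linter.unusedSimpArgs false
set_option linter.unusedSectionVars false
set_option linter.unusedVariables false

/-! Vectors and functionals of `ι → F` that are rational over a subfield `F₀`; overgroups of
`SL_n(F₀)` in `SL_n(F)`: the coefficient field. -/

namespace Cfsg.Agent.Lib.Helper7.SubF

open Module Cfsg.Agent.Lib.Helper97

variable {ι : Type} [Fintype ι] [DecidableEq ι] {F : Type*} [Field F]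

/-- basis vector -/
abbrev bv (i : ι) : ι → F := Pi.single i 1

/-- coordinate functional -/
abbrev pr (j : ι) : Dual F (ι → F) := LinearMap.proj j

theorem single_eq_smul (i : ι) (c : F) : (Pi.single i c : ι → F) = c • bv i := by
  ext k
  by_cases h : k = i
  · subst h; simp
  · simp [h]

theorem dual_apply (φ : Dual F (ι → F)) (x : ι → F) : φ x = ∑ i, x i * φ (bv i) := by
  conv_lhs => rw [← Finset.univ_sum_single x]
  rw [map_sum]
  apply Finset.sum_congr rfl
  intro i _
  rw [single_eq_smul, map_smul, smul_eq_mul]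

theorem dual_ext {φ ψ : Dual F (ι → F)} (h : ∀ i, φ (bv i) = ψ (bv i)) : φ = ψ := by
  ext x
  simpa using h x

theorem exists_bv_ne {φ : Dual F (ι → F)} (h : φ ≠ 0) : ∃ i, φ (bv i) ≠ 0 := by
  by_contra hcon
  push Not at hcon
  exact h (dual_ext (by simpa using hcon))

theorem pr_bv (i j : ι) : (pr j : Dual F (ι → F)) (bv i) = if j = i then 1 else 0 := by
  simp [Pi.single_apply]

theorem pr_bv_self (i : ι) : (pr i : Dual F (ι → F)) (bv i) = 1 := by simp

theorem pr_bv_ne {i j : ι} (h : j ≠ i) : (pr j : Dual F (ι → F)) (bv i) = 0 := by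
  simp [h]

theorem exists_third (h3 : 3 ≤ Fintype.card ι) (i j : ι) : ∃ k, k ≠ i ∧ k ≠ j := by
  by_contra hcon
  push Not at hcon
  have : (Finset.univ : Finset ι) ⊆ {i, j} := by
    intro k _
    by_cases hk : k = i
    · simp [hk]
    · simp [hcon k hk]
  have h1 := Finset.card_le_card this
  have h2 : ({i, j} : Finset ι).card ≤ 2 := Finset.card_le_two
  rw [Finset.card_univ] at h1
  omega

variable (F₀ : Subfield F)

/-- rational vectors -/
def Rat (v : ι → F) : Prop := ∀ i, v i ∈ F₀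

/-- rational functionals -/
def RatD (φ : Dual F (ι → F)) : Prop := ∀ i, φ (bv i) ∈ F₀

variable {F₀}

theorem RatD.apply {φ : Dual F (ι → F)} {v : ι → F} (hφ : RatD F₀ φ) (hv : Rat F₀ v) : φ v ∈ F₀ := by
  rw [dual_apply]
  exact F₀.sum_mem (fun i _ => F₀.mul_mem (hv i) (hφ i))

theorem rat_zero : Rat F₀ (0 : ι → F) := fun _ => F₀.zero_mem

theorem rat_bv (i : ι) : Rat F₀ (bv i : ι → F) := by
  intro k
  by_cases h : k = i
  · subst h; simpa using F₀.one_mem
  · simpa [h] using F₀.zero_mem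

theorem Rat.add {v w : ι → F} (hv : Rat F₀ v) (hw : Rat F₀ w) : Rat F₀ (v + w) :=
  fun i => F₀.add_mem (hv i) (hw i)

theorem Rat.sub {v w : ι → F} (hv : Rat F₀ v) (hw : Rat F₀ w) : Rat F₀ (v - w) :=
  fun i => F₀.sub_mem (hv i) (hw i)

theorem Rat.neg {v : ι → F} (hv : Rat F₀ v) : Rat F₀ (-v) :=
  fun i => F₀.neg_mem (hv i)

theorem Rat.smul {v : ι → F} (hv : Rat F₀ v) {c : F} (hc : c ∈ F₀) : Rat F₀ (c • v) :=
  fun i => F₀.mul_mem hc (hv i)

theorem Rat.of_smul {v : ι → F} {c : F} (hc : c ∈ F₀) (hc0 : c ≠ 0) (hv : Rat F₀ (c • v)) :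
    Rat F₀ v := by
  have := hv.smul (F₀.inv_mem hc)
  rwa [smul_smul, inv_mul_cancel₀ hc0, one_smul] at this

theorem ratD_zero : RatD F₀ (0 : Dual F (ι → F)) := fun _ => F₀.zero_mem

theorem ratD_pr (j : ι) : RatD F₀ (pr j : Dual F (ι → F)) := by
  intro i
  rw [pr_bv]
  split_ifs
  · exact F₀.one_mem
  · exact F₀.zero_mem

theorem RatD.add {φ ψ : Dual F (ι → F)} (h1 : RatD F₀ φ) (h2 : RatD F₀ ψ) : RatD F₀ (φ + ψ) :=
  fun i => F₀.add_mem (h1 i) (h2 i)

theorem RatD.sub {φ ψ : Dual F (ι → F)} (h1 : RatD F₀ φ) (h2 : RatD F₀ ψ) : RatD F₀ (φ - ψ) :=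
  fun i => F₀.sub_mem (h1 i) (h2 i)

theorem RatD.neg {φ : Dual F (ι → F)} (h1 : RatD F₀ φ) : RatD F₀ (-φ) :=
  fun i => F₀.neg_mem (h1 i)

theorem RatD.smul {φ : Dual F (ι → F)} (h1 : RatD F₀ φ) {c : F} (hc : c ∈ F₀) : RatD F₀ (c • φ) :=
  fun i => F₀.mul_mem hc (h1 i)

theorem RatD.of_smul {φ : Dual F (ι → F)} {c : F} (hc : c ∈ F₀) (hc0 : c ≠ 0)
    (h1 : RatD F₀ (c • φ)) : RatD F₀ φ := by
  have := h1.smul (F₀.inv_mem hc)
  rwa [smul_smul, inv_mul_cancel₀ hc0, one_smul] at this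

/-! ### The coefficient set -/

variable {M : Subgroup ((ι → F) ≃ₗ[F] (ι → F))}

/-- the coefficients of the elementary transvections of `M` -/
def Sc (M : Subgroup ((ι → F) ≃ₗ[F] (ι → F))) : Set F :=
  {c | ∀ i j : ι, i ≠ j → TX M (c • bv i) (pr j)}

/-- `M` contains the rational transvections -/
def HasRat (F₀ : Subfield F) (M : Subgroup ((ι → F) ≃ₗ[F] (ι → F))) : Prop :=
  ∀ (v : ι → F) (φ : Dual F (ι → F)), Rat F₀ v → RatD F₀ φ → φ v = 0 → TX M v φ

theorem HasRat.elem (hM : HasRat F₀ M) {i j : ι} (hij : i ≠ j) : TX M (bv i) (pr j) :=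
  hM _ _ (rat_bv i) (ratD_pr j) (pr_bv_ne hij.symm)

theorem col_change (hM : HasRat F₀ M) {i j k : ι} (hki : k ≠ i) (hkj : k ≠ j) {c : F}
    (h : TX M (c • bv i) (pr j)) : TX M (c • bv i) (pr k) := by
  have h2 : TX M (bv j) (pr k) := hM.elem hkj.symm
  have := h.comm h2 (by simp [hki])
  simpa using this

theorem row_change (hM : HasRat F₀ M) {i j k : ι} (hki : k ≠ i) (hkj : k ≠ j) {c : F}
    (h : TX M (c • bv i) (pr j)) : TX M (c • bv k) (pr j) := by
  have h1 : TX M (bv k) (pr i) := hM.elem hki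
  have := h1.comm h (by simp [hkj.symm])
  rw [TX_smul_comm]
  simpa using this

theorem mem_Sc_of (hM : HasRat F₀ M) (h3 : 3 ≤ Fintype.card ι) {i j : ι} (hij : i ≠ j) {c : F}
    (h : TX M (c • bv i) (pr j)) : c ∈ Sc M := by
  have col : ∀ {i j k : ι}, k ≠ i → TX M (c • bv i) (pr j) → TX M (c • bv i) (pr k) := by
    intro i j k hki h
    by_cases hkj : k = j
    · rw [hkj]; exact h
    · exact col_change hM hki hkj h
  have row : ∀ {i j k : ι}, k ≠ j → TX M (c • bv i) (pr j) → TX M (c • bv k) (pr j) := by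
    intro i j k hkj h
    by_cases hki : k = i
    · rw [hki]; exact h
    · exact row_change hM hki hkj h
  intro i' j' hij'
  by_cases h1 : i' = j
  · subst h1
    by_cases h2 : j' = i
    · subst h2
      obtain ⟨k, hk1, hk2⟩ := exists_third h3 j' i'
      exact col hij'.symm (row hk2.symm (col hk1 h))
    · exact row hij' (col h2 h)
  · exact col hij'.symm (row h1 h)

theorem Sc_of_mem (hM : HasRat F₀ M) {c : F} (hc : c ∈ F₀) : c ∈ Sc M := by
  intro i j hij
  exact hM _ _ ((rat_bv i).smul hc) (ratD_pr j) (by simp [hij.symm])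

theorem Sc_add {c d : F} (hc : c ∈ Sc M) (hd : d ∈ Sc M) : c + d ∈ Sc M := by
  intro i j hij
  rw [add_smul]
  exact (hc i j hij).add_left (hd i j hij)

theorem Sc_neg {c : F} (hc : c ∈ Sc M) : -c ∈ Sc M := by
  intro i j hij
  rw [neg_smul]
  exact (hc i j hij).neg_left

theorem Sc_mul (hM : HasRat F₀ M) (h3 : 3 ≤ Fintype.card ι) {c d : F} (hc : c ∈ Sc M)
    (hd : d ∈ Sc M) : c * d ∈ Sc M := by
  have hne : ∃ i j : ι, i ≠ j := by
    have : Nontrivial ι := Fintype.one_lt_card_iff_nontrivial.1 (by omega)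
    exact exists_pair_ne ι
  obtain ⟨i, j, hij⟩ := hne
  obtain ⟨k, hki, hkj⟩ := exists_third h3 i j
  have h1 := hc i k hki.symm
  have h2 := hd k j hkj
  have := h1.comm h2 (by simp [hij.symm])
  apply mem_Sc_of hM h3 hij
  have e : (pr k : Dual F (ι → F)) (d • bv k) = d := by simp
  rw [e, ← TX_smul_comm, smul_smul, mul_comm] at this
  exact this

/-- coordinates of the centre of a transvection of `M` with a coordinate axis -/
theorem coord_mem_Sc (hM : HasRat F₀ M) (h3 : 3 ≤ Fintype.card ι) {v : ι → F} {j : ι}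
    (h : TX M v (pr j)) (k : ι) : v k ∈ Sc M := by
  by_cases hkj : k = j
  · subst hkj
    have : v k = 0 := h.apply_eq_zero
    rw [this]
    exact Sc_of_mem hM F₀.zero_mem
  · obtain ⟨i, hik, hij⟩ := exists_third h3 k j
    have h1 : TX M (bv i) (pr k) := hM.elem hik
    have := h1.comm h (by simp [hij.symm])
    apply mem_Sc_of hM h3 hij
    rw [TX_smul_comm]
    simpa using this

/-- coordinates of the axis of a transvection of `M` with a coordinate centre -/
theorem coordD_mem_Sc (hM : HasRat F₀ M) (h3 : 3 ≤ Fintype.card ι) {φ : Dual F (ι → F)} {i : ι}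
    (h : TX M (bv i) φ) (k : ι) : φ (bv k) ∈ Sc M := by
  by_cases hki : k = i
  · subst hki
    rw [h.apply_eq_zero]
    exact Sc_of_mem hM F₀.zero_mem
  · obtain ⟨j, hjk, hji⟩ := exists_third h3 k i
    have h2 : TX M (bv k) (pr j) := hM.elem hjk.symm
    have := h.comm h2 (by simp [hji])
    apply mem_Sc_of hM h3 hji.symm
    rw [TX_smul_comm]
    exact this

end Cfsg.Agent.Lib.Helper7.SubF
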