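import Mathlib
import Cfsg.Agent.Lib.Helper7.SubF.Basic

set_option autoImplicit false
set_option linter.unusedSimpArgs false
set_option linter.unusedSectionVars false
set_option linter.unusedVariables false

/-! Overgroups of `SL_n(F₀)`: transvections with a rational axis or centre. -/

namespace Cfsg.Agent.Lib.Helper7.SubF

open Module Cfsg.Agent.Lib.Helper97

variable {ι : Type} [Fintype ι] [DecidableEq ι] {F : Type*} [Field F] {F₀ : Subfield F}
variable {M : Subgroup ((ι → F) ≃ₗ[F] (ι → F))}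

/-- a transvection of `M` with rational axis has a rational centre -/
theorem rat_of_TX (hM : HasRat F₀ M) (h3 : 3 ≤ Fintype.card ι) (hS : ∀ c ∈ Sc M, c ∈ F₀)
    {v : ι → F} {ψ : Dual F (ι → F)} (h : TX M v ψ) (hψ : RatD F₀ ψ) (hψ0 : ψ ≠ 0) :
    Rat F₀ v := by
  obtain ⟨j, hj⟩ := exists_bv_ne hψ0
  set a := ψ (bv j) with ha
  have haF : a ∈ F₀ := hψ j
  set ψ' : Dual F (ι → F) := a⁻¹ • ψ - pr j with hψ'
  have hψ'R : RatD F₀ ψ' := (hψ.smul (F₀.inv_mem haF)).sub (ratD_pr j)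
  have hψ'j : ψ' (bv j) = 0 := by
    simp only [hψ', LinearMap.sub_apply, LinearMap.smul_apply, smul_eq_mul, ← ha, pr_bv_self]
    rw [inv_mul_cancel₀ hj, sub_self]
  have hy : TX M (bv j) ψ' := hM _ _ (rat_bv j) hψ'R hψ'j
  set y := LinearEquiv.transvection hψ'j with hydef
  have hyM : y ∈ M := hy.mem hψ'j
  have hyx : ∀ x, y x = x + ψ' x • bv j := fun x => LinearEquiv.transvection.apply _ _
  have h1 := h.conj hyM
  have e1 : ψ ∘ₗ (y.symm : (ι → F) →ₗ[F] (ι → F)) = a • pr j := by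
    ext1 i
    ext1
    obtain ⟨x, hx⟩ := y.surjective (Pi.single i 1)
    simp only [LinearMap.comp_apply, LinearMap.coe_single, LinearEquiv.coe_coe]
    rw [← hx, LinearEquiv.symm_apply_apply, hyx]
    simp only [LinearMap.smul_apply, LinearMap.proj_apply, Pi.add_apply, Pi.smul_apply,
      Pi.single_eq_same, smul_eq_mul, mul_one, hψ', LinearMap.sub_apply]
    field_simp
    ring
  rw [e1, ← TX_smul_comm] at h1
  have h2 : Rat F₀ (a • y v) := fun k => hS _ (coord_mem_Sc hM h3 h1 k)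
  have h4 : Rat F₀ (y v) := Rat.of_smul haF hj h2
  have h5 : ψ' (y v) = ψ' v := by
    rw [hyx, map_add, map_smul, hψ'j, smul_zero, add_zero]
  have h6 : ψ' v ∈ F₀ := by rw [← h5]; exact hψ'R.apply h4
  have h7 : v = y v - ψ' v • bv j := by rw [hyx]; abel
  rw [h7]
  exact h4.sub ((rat_bv j).smul h6)

/-- a transvection of `M` with rational centre has a rational axis -/
theorem ratD_of_TX (hM : HasRat F₀ M) (h3 : 3 ≤ Fintype.card ι) (hS : ∀ c ∈ Sc M, c ∈ F₀)
    {w : ι → F} {φ : Dual F (ι → F)} (h : TX M w φ) (hw : Rat F₀ w) (hw0 : w ≠ 0) :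
    RatD F₀ φ := by
  obtain ⟨i, hi⟩ := Function.ne_iff.1 hw0
  set a := w i with ha
  have hi' : a ≠ 0 := hi
  have haF : a ∈ F₀ := hw i
  set w' : ι → F := bv i - a⁻¹ • w with hw'
  have hw'R : Rat F₀ w' := (rat_bv i).sub (hw.smul (F₀.inv_mem haF))
  have hw'i : (pr i : Dual F (ι → F)) w' = 0 := by
    simp only [hw', LinearMap.proj_apply, Pi.sub_apply, Pi.single_eq_same, Pi.smul_apply, smul_eq_mul,
      ← ha]
    rw [inv_mul_cancel₀ hi', sub_self]
  have hy : TX M w' (pr i) := hM _ _ hw'R (ratD_pr i) hw'i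
  set y := LinearEquiv.transvection hw'i with hydef
  have hyM : y ∈ M := hy.mem hw'i
  have hyx : ∀ x, y x = x + x i • w' := fun x => LinearEquiv.transvection.apply _ _
  have h1 := h.conj hyM
  have e1 : y w = a • bv i := by
    rw [hyx, hw', ← ha, smul_sub, smul_smul, mul_inv_cancel₀ hi', one_smul]
    abel
  rw [e1, TX_smul_comm] at h1
  set φ' : Dual F (ι → F) := φ ∘ₗ (y.symm : (ι → F) →ₗ[F] (ι → F)) with hφ'
  have h2 : RatD F₀ (a • φ') := fun k => hS _ (coordD_mem_Sc hM h3 h1 k)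
  have h4 : RatD F₀ φ' := RatD.of_smul haF hi' h2
  intro k
  have e2 : φ (bv k) = φ' (y (bv k)) := by
    simp [hφ']
  rw [e2]
  apply h4.apply
  rw [hyx]
  exact (rat_bv k).add (hw'R.smul (rat_bv k i))

/-- if the centre of a transvection of `M` is killed by a rational functional, it is rational up to
a scalar -/
theorem exists_rat_of_kill (hM : HasRat F₀ M) (h3 : 3 ≤ Fintype.card ι) (hS : ∀ c ∈ Sc M, c ∈ F₀)
    {v : ι → F} {φ ψ : Dual F (ι → F)} (h : TX M v φ) (hφ0 : φ ≠ 0) (hψ : RatD F₀ ψ) (hψ0 : ψ ≠ 0)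
    (hψv : ψ v = 0) : ∃ c : F, c ≠ 0 ∧ Rat F₀ (c • v) := by
  by_cases hall : ∀ w, Rat F₀ w → ψ w = 0 → φ w = 0
  · obtain ⟨i₀, hi₀⟩ := exists_bv_ne hψ0
    set a := ψ (bv i₀) with ha
    have haF : a ∈ F₀ := hψ i₀
    have hk : ∀ k, φ (bv k) = (φ (bv i₀) / a) * ψ (bv k) := by
      intro k
      have hr : Rat F₀ (bv k - (ψ (bv k) / a) • bv i₀ : ι → F) :=
        (rat_bv k).sub ((rat_bv i₀).smul (F₀.div_mem (hψ k) haF))
      have h0 : ψ (bv k - (ψ (bv k) / a) • bv i₀ : ι → F) = 0 := by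
        rw [map_sub, map_smul, smul_eq_mul, ← ha]
        field_simp
        ring
      have := hall _ hr h0
      rw [map_sub, map_smul, smul_eq_mul] at this
      field_simp
      field_simp at this
      linear_combination this
    have hφ : φ = (φ (bv i₀) / a) • ψ := dual_ext (fun k => by
      rw [hk k]; simp)
    have hd : φ (bv i₀) / a ≠ 0 := by
      intro h0
      rw [h0, zero_smul] at hφ
      exact hφ0 hφ
    refine ⟨_, hd, ?_⟩
    rw [hφ, ← TX_smul_comm] at h
    exact rat_of_TX hM h3 hS h hψ hψ0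
  · push Not at hall
    obtain ⟨w, hw, hψw, hφw⟩ := hall
    refine ⟨φ w, hφw, ?_⟩
    have h2 : TX M w ψ := hM _ _ hw hψ hψw
    have := h.comm h2 hψv
    rw [← TX_smul_comm] at this
    exact rat_of_TX hM h3 hS this hψ hψ0

end Cfsg.Agent.Lib.Helper7.SubF
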