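import Mathlib
import Cfsg.Agent.Lib.Helper7.SubF.StepBC
import Cfsg.Agent.Lib.Helper7.SL2Key

set_option autoImplicit false
set_option linter.unusedSimpArgs false
set_option linter.unusedSectionVars false
set_option linter.unusedVariables false

/-! Overgroups of `SL_n(F₀)`: transvections with a generic centre do not exist. -/

namespace Cfsg.Agent.Lib.Helper7.SubF

open Module Cfsg.Agent.Lib.Helper97 Cfsg.Agent.Lib.Helper46 Matrix

variable {ι : Type} [Fintype ι] [DecidableEq ι] {F : Type*} [Field F] {F₀ : Subfield F}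
variable {M : Subgroup ((ι → F) ≃ₗ[F] (ι → F))}

/-- the subgroup of `SL₂(F)` induced by `M` on the pair `(w, v)` -/
def pairGrp (M : Subgroup ((ι → F) ≃ₗ[F] (ι → F))) (w v : ι → F) :
    Subgroup (SpecialLinearGroup (Fin 2) F) where
  carrier := {X | ∃ m ∈ M, m w = X.1 0 0 • w + X.1 1 0 • v ∧ m v = X.1 0 1 • w + X.1 1 1 • v}
  one_mem' := ⟨1, M.one_mem, by simp, by simp⟩
  mul_mem' := by
    rintro X Y ⟨m, hm, mw, mv⟩ ⟨m', hm', mw', mv'⟩
    refine ⟨m * m', M.mul_mem hm hm', ?_, ?_⟩
    · rw [LinearEquiv.mul_apply, mw', map_add, map_smul, map_smul, mw, mv, mul_00, mul_10]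
      module
    · rw [LinearEquiv.mul_apply, mv', map_add, map_smul, map_smul, mw, mv, mul_01, mul_11]
      module
  inv_mem' := by
    rintro X ⟨m, hm, mw, mv⟩
    have hd := det2 X
    refine ⟨m⁻¹, M.inv_mem hm, ?_, ?_⟩
    · show m.symm w = _
      rw [LinearEquiv.symm_apply_eq, inv_00, inv_10, map_add, map_smul, map_smul, mw, mv]
      have : X.1 1 1 • (X.1 0 0 • w + X.1 1 0 • v) + -X.1 1 0 • (X.1 0 1 • w + X.1 1 1 • v)
          = (X.1 0 0 * X.1 1 1 - X.1 0 1 * X.1 1 0) • w := by module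
      rw [this, hd, one_smul]
    · show m.symm v = _
      rw [LinearEquiv.symm_apply_eq, inv_01, inv_11, map_add, map_smul, map_smul, mw, mv]
      have : -X.1 0 1 • (X.1 0 0 • w + X.1 1 0 • v) + X.1 0 0 • (X.1 0 1 • w + X.1 1 1 • v)
          = (X.1 0 0 * X.1 1 1 - X.1 0 1 * X.1 1 0) • v := by module
      rw [this, hd, one_smul]

theorem mem_pairGrp {w v : ι → F} {X : SpecialLinearGroup (Fin 2) F} :
    X ∈ pairGrp M w v ↔
      ∃ m ∈ M, m w = X.1 0 0 • w + X.1 1 0 • v ∧ m v = X.1 0 1 • w + X.1 1 1 • v := Iff.rfl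

theorem bv_ne_zero (i : ι) : (bv i : ι → F) ≠ 0 := by
  intro h
  have := congrFun h i
  simp at this

theorem uu_mem_pairGrp_iff (hM : HasRat F₀ M) (h3 : 3 ≤ Fintype.card ι)
    (hS : ∀ c ∈ Sc M, c ∈ F₀) {i : ι} {v : ι → F}
    (hgen : ∀ ψ : Dual F (ι → F), RatD F₀ ψ → ψ v = 0 → ψ = 0) (a : F) :
    uu a ∈ pairGrp M (bv i) v ↔ ∃ ψ : Dual F (ι → F), RatD F₀ ψ ∧ ψ (bv i) = 0 ∧ ψ v = a := by
  constructor
  · rintro ⟨m, hm, mw, mv⟩
    simp only [uu, mk2_00, mk2_01, mk2_10, mk2_11, one_smul, zero_smul, add_zero] at mw mv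
    have sw : m.symm (bv i) = bv i := by rw [LinearEquiv.symm_apply_eq, mw]
    have sv : m.symm v = v - a • bv i := by
      rw [LinearEquiv.symm_apply_eq, map_sub, map_smul, mw, mv]; abel
    have key : ∀ ψ : Dual F (ι → F), RatD F₀ ψ → ψ (bv i) = 0 →
        ψ ∘ₗ (m.symm : (ι → F) →ₗ[F] (ι → F)) = ψ := by
      intro ψ hψ hψi
      have h1 : TX M (bv i) ψ := hM _ _ (rat_bv i) hψ hψi
      have h2 := h1.conj hm
      rw [mw] at h2
      have h3' := h2.sub_right h1
      have h4 := ratD_of_TX hM h3 hS h3' (rat_bv i) (bv_ne_zero i)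
      have h5 := hgen _ h4 (by
        simp only [LinearMap.sub_apply, LinearMap.comp_apply, LinearEquiv.coe_coe, sv, map_sub,
          map_smul, hψi, smul_zero, sub_zero, sub_self])
      exact sub_eq_zero.1 h5
    set α : Dual F (ι → F) := pr i ∘ₗ (m.symm : (ι → F) →ₗ[F] (ι → F)) - pr i with hα
    have hx : ∀ x, (m⁻¹ : (ι → F) ≃ₗ[F] (ι → F)) x = x + α x • bv i := by
      intro x
      show m.symm x = _
      ext j
      by_cases hj : j = i
      · subst hj
        simp [hα]
      · have := congrArg (fun f : Dual F (ι → F) => f x) (key (pr j) (ratD_pr j) (pr_bv_ne hj))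
        simp only [LinearMap.comp_apply, LinearEquiv.coe_coe, LinearMap.proj_apply] at this
        simp [hj, this]
    have hαi : α (bv i) = 0 := by
      simp only [hα, LinearMap.sub_apply, LinearMap.comp_apply, LinearEquiv.coe_coe, sw, sub_self]
    have hTX : TX M (bv i) α := TX_of_eq hαi (M.inv_mem hm) hx
    have hαR := ratD_of_TX hM h3 hS hTX (rat_bv i) (bv_ne_zero i)
    refine ⟨-α, hαR.neg, by simp [hαi], ?_⟩
    simp only [hα, LinearMap.neg_apply, LinearMap.sub_apply, LinearMap.comp_apply,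
      LinearEquiv.coe_coe, sv, LinearMap.proj_apply, Pi.sub_apply, Pi.smul_apply, Pi.single_eq_same,
      smul_eq_mul, mul_one]
    ring
  · rintro ⟨ψ, hψ, hψi, rfl⟩
    have h1 : TX M (bv i) ψ := hM _ _ (rat_bv i) hψ hψi
    refine ⟨_, h1.mem hψi, ?_, ?_⟩
    · rw [LinearEquiv.transvection.apply, hψi]; simp [uu]
    · simp only [uu, mk2_01, mk2_11, LinearEquiv.transvection.apply, one_smul]
      abel

theorem ll_mem_pairGrp {w v : ι → F} {φ : Dual F (ι → F)} (h : TX M v φ) :
    ll (φ w) ∈ pairGrp M w v := by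
  refine ⟨_, h.mem h.apply_eq_zero, ?_, ?_⟩
  · rw [LinearEquiv.transvection.apply]; simp [ll]
  · rw [LinearEquiv.transvection.apply, h.apply_eq_zero]; simp [ll]

/-- there is no transvection in `M` with a generic centre -/
theorem generic_false [Fintype F] (hM : HasRat F₀ M) (h3 : 3 ≤ Fintype.card ι)
    (hS : ∀ c ∈ Sc M, c ∈ F₀) (hdich : ∀ K : Subfield F, F₀ ≤ K → K = F₀ ∨ K = ⊤)
    {v : ι → F} {φ : Dual F (ι → F)} (h : TX M v φ) (hφ0 : φ ≠ 0)
    (hgen : ∀ ψ : Dual F (ι → F), RatD F₀ ψ → ψ v = 0 → ψ = 0) : False := by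
  obtain ⟨p, hp⟩ := CharP.exists F
  haveI : Fact p.Prime := ⟨CharP.char_is_prime F p⟩
  obtain ⟨i, hi⟩ := exists_bv_ne hφ0
  obtain ⟨j, hji, -⟩ := exists_third h3 i i
  obtain ⟨k, hki, hkj⟩ := exists_third h3 i j
  set G := pairGrp M (bv i) v with hG
  have hiff := uu_mem_pairGrp_iff hM h3 hS (i := i) hgen
  have hl : ll (φ (bv i)) ∈ G := ll_mem_pairGrp h
  have hprne : ∀ s : ι, (pr s : Dual F (ι → F)) ≠ 0 := by
    intro s h0
    have := congrArg (fun f : Dual F (ι → F) => f (bv s)) h0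
    simp at this
  have hvne : ∀ s : ι, v s ≠ 0 := fun s h0 => hprne s (hgen _ (ratD_pr s) h0)
  have huj : uu (v j) ∈ G := (hiff _).2 ⟨pr j, ratD_pr j, pr_bv_ne hji, rfl⟩
  have huk : uu (v k) ∈ G := (hiff _).2 ⟨pr k, ratD_pr k, pr_bv_ne hki, rfl⟩
  have hjk : v j ≠ v k := by
    intro h0
    have h1 := hgen (pr j - pr k) ((ratD_pr j).sub (ratD_pr k)) (by simp [h0])
    have := congrArg (fun f : Dual F (ι → F) => f (bv j)) h1
    simp [hkj] at this
  have hjk' : v j + v k ≠ 0 := by
    intro h0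
    have h1 := hgen (pr j + pr k) ((ratD_pr j).add (ratD_pr k)) (by simpa using h0)
    have := congrArg (fun f : Dual F (ι → F) => f (bv j)) h1
    simp [hkj] at this
  have h4 : 4 ≤ Nat.card (addOf G) := by
    classical
    have hsub : (({0, v j, v k, v j + v k} : Finset F) : Set F) ⊆ (addOf G : Set F) := by
      intro x hx
      simp only [Finset.coe_insert, Finset.coe_singleton, Set.mem_insert_iff,
        Set.mem_singleton_iff] at hx
      rcases hx with rfl | rfl | rfl | rfl
      · exact (addOf G).zero_mem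
      · exact huj
      · exact huk
      · exact (addOf G).add_mem huj huk
    have hc : ({0, v j, v k, v j + v k} : Finset F).card = 4 := by
      rw [Finset.card_insert_of_notMem, Finset.card_insert_of_notMem, Finset.card_insert_of_notMem,
        Finset.card_singleton]
      · simp [hvne j]
      · simp [hjk, hvne k]
      · simp [(hvne j).symm, (hvne k).symm, hjk'.symm]
    have h5 := Set.ncard_le_ncard hsub (Set.toFinite _)
    rw [Set.ncard_coe_finset, hc] at h5
    have h6 : ((addOf G : AddSubgroup F) : Set F).ncard = Nat.card (addOf G) :=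
      (Nat.card_coe_set_eq _).symm
    omega
  obtain ⟨K, c, hc, hK⟩ := key_subfield p G (hvne j) hi huj hl h4
  have hF₀K : F₀ ≤ K := by
    intro f hf
    have h1 : uu (c * 1) ∈ G := (hK 1).2 K.one_mem
    rw [mul_one] at h1
    obtain ⟨ψ, hψ, hψi, hψv⟩ := (hiff _).1 h1
    rw [← hK]
    refine (hiff _).2 ⟨f • ψ, hψ.smul hf, by simp [hψi], ?_⟩
    simp [hψv, mul_comm]
  rcases hdich K hF₀K with rfl | rfl
  · have hfj : v j / c ∈ K := by
      rw [← hK]
      have : c * (v j / c) = v j := by field_simp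
      rw [this]; exact huj
    have hfk : v k / c ∈ K := by
      rw [← hK]
      have : c * (v k / c) = v k := by field_simp
      rw [this]; exact huk
    have h1 := hgen ((v k / c) • pr j - (v j / c) • pr k)
      (((ratD_pr j).smul hfk).sub ((ratD_pr k).smul hfj)) (by
        simp only [LinearMap.sub_apply, LinearMap.smul_apply, LinearMap.proj_apply, smul_eq_mul]
        ring)
    have := congrArg (fun f : Dual F (ι → F) => f (bv j)) h1
    simp [hkj, hc, hvne k] at this
  · have h1 : uu (v i) ∈ G := by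
      have : c * (v i / c) = v i := by field_simp
      rw [← this]
      exact (hK _).2 (Subfield.mem_top _)
    obtain ⟨ψ, hψ, hψi, hψv⟩ := (hiff _).1 h1
    have h2 := hgen (pr i - ψ) ((ratD_pr i).sub hψ) (by simp [hψv])
    have := congrArg (fun f : Dual F (ι → F) => f (bv i)) h2
    simp [hψi] at this

end Cfsg.Agent.Lib.Helper7.SubF
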