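import Mathlib
import Cfsg.Agent.Lib.Helper7.SubF.StepD

set_option autoImplicit false
set_option linter.unusedSimpArgs false
set_option linter.unusedSectionVars false
set_option linter.unusedVariables false

/-! Overgroups of `SL_n(F₀)` in `SL_n(F)`, `F/F₀` without intermediate fields. -/

namespace Cfsg.Agent.Lib.Helper7.SubF

open Module Cfsg.Agent.Lib.Helper97 Matrix

variable {ι : Type} [Fintype ι] [DecidableEq ι] {F : Type*} [Field F] {F₀ : Subfield F}
variable {M : Subgroup ((ι → F) ≃ₗ[F] (ι → F))}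

theorem exists_rat_smul [Fintype F] (hM : HasRat F₀ M) (h3 : 3 ≤ Fintype.card ι)
    (hS : ∀ c ∈ Sc M, c ∈ F₀) (hdich : ∀ K : Subfield F, F₀ ≤ K → K = F₀ ∨ K = ⊤)
    {v : ι → F} {φ : Dual F (ι → F)} (h : TX M v φ) (hφ0 : φ ≠ 0) :
    ∃ c : F, c ≠ 0 ∧ Rat F₀ (c • v) := by
  by_cases hgen : ∀ ψ : Dual F (ι → F), RatD F₀ ψ → ψ v = 0 → ψ = 0
  · exact (generic_false hM h3 hS hdich h hφ0 hgen).elim
  · push Not at hgen
    obtain ⟨ψ, hψ, hψv, hψ0⟩ := hgen
    exact exists_rat_of_kill hM h3 hS h hφ0 hψ hψ0 hψv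

/-- every element of `M` is rational up to a scalar -/
theorem exists_scalar [Fintype F] (hM : HasRat F₀ M) (h3 : 3 ≤ Fintype.card ι)
    (hS : ∀ c ∈ Sc M, c ∈ F₀) (hdich : ∀ K : Subfield F, F₀ ≤ K → K = F₀ ∨ K = ⊤)
    {g : (ι → F) ≃ₗ[F] (ι → F)} (hg : g ∈ M) :
    ∃ c : F, c ≠ 0 ∧ ∀ i, Rat F₀ (c • g (bv i)) := by
  have hφne : ∀ j : ι, (pr j : Dual F (ι → F)) ∘ₗ (g.symm : (ι → F) →ₗ[F] (ι → F)) ≠ 0 := by
    intro j h0
    have := congrArg (fun f : Dual F (ι → F) => f (g (bv j))) h0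
    simp at this
  have hc : ∀ i : ι, ∃ c : F, c ≠ 0 ∧ Rat F₀ (c • g (bv i)) ∧
      ∀ j, j ≠ i → RatD F₀ (c⁻¹ • ((pr j : Dual F (ι → F)) ∘ₗ
        (g.symm : (ι → F) →ₗ[F] (ι → F)))) := by
    intro i
    obtain ⟨j, hji, -⟩ := exists_third h3 i i
    have h1 := (hM.elem hji.symm).conj hg
    obtain ⟨c, hc0, hcR⟩ := exists_rat_smul hM h3 hS hdich h1 (hφne j)
    refine ⟨c, hc0, hcR, fun j' hj' => ?_⟩
    have h2 := (hM.elem hj'.symm).conj hg
    have e : g (bv i) = c⁻¹ • (c • g (bv i)) := by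
      rw [smul_smul, inv_mul_cancel₀ hc0, one_smul]
    rw [e, TX_smul_comm] at h2
    refine ratD_of_TX hM h3 hS h2 hcR ?_
    intro h0
    have h5 : g (bv i) = 0 := (smul_eq_zero.1 h0).resolve_left hc0
    have h6 : (bv i : ι → F) = 0 := by
      have := congrArg g.symm h5
      simpa using this
    exact bv_ne_zero i h6
  choose c hc0 hcR hcD using hc
  have hne : Nonempty ι := by
    rw [← Fintype.card_pos_iff]; omega
  obtain ⟨i₀⟩ := hne
  refine ⟨c i₀, hc0 i₀, fun i => ?_⟩
  obtain ⟨j, hj1, hj2⟩ := exists_third h3 i₀ i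
  obtain ⟨k, hk⟩ := exists_bv_ne (hφne j)
  have hx := hcD i₀ j hj1 k
  have hy := hcD i j hj2 k
  simp only [LinearMap.smul_apply, smul_eq_mul] at hx hy
  set t := ((pr j : Dual F (ι → F)) ∘ₗ (g.symm : (ι → F) →ₗ[F] (ι → F))) (bv k) with ht
  have hq : c i₀ / c i ∈ F₀ := by
    have := F₀.div_mem hy hx
    have e : (c i)⁻¹ * t / ((c i₀)⁻¹ * t) = c i₀ / c i := by
      have := hc0 i
      have := hc0 i₀
      field_simp
    rwa [e] at this
  have e : c i₀ • g (bv i) = (c i₀ / c i) • (c i • g (bv i)) := by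
    rw [smul_smul, div_mul_cancel₀ _ (hc0 i)]
  rw [e]
  exact (hcR i).smul hq

theorem Sc_pow (hM : HasRat F₀ M) (h3 : 3 ≤ Fintype.card ι) {c : F} (hc : c ∈ Sc M) (n : ℕ) :
    c ^ n ∈ Sc M := by
  induction n with
  | zero => simpa using Sc_of_mem hM F₀.one_mem
  | succ k ih => rw [pow_succ]; exact Sc_mul hM h3 ih hc

/-- the coefficient field -/
def ScField [Fintype F] (hM : HasRat F₀ M) (h3 : 3 ≤ Fintype.card ι) : Subfield F where
  carrier := Sc M
  mul_mem' := Sc_mul hM h3
  one_mem' := Sc_of_mem hM F₀.one_mem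
  add_mem' := Sc_add
  zero_mem' := Sc_of_mem hM F₀.zero_mem
  neg_mem' := Sc_neg
  inv_mem' := by
    intro c hc
    by_cases h0 : c = 0
    · rw [h0, _root_.inv_zero]; exact Sc_of_mem hM F₀.zero_mem
    · have h1 : c ^ (Fintype.card F - 1) = 1 := FiniteField.pow_card_sub_one_eq_one c h0
      have h2 : 2 ≤ Fintype.card F := Fintype.one_lt_card
      have h4 : c⁻¹ = c ^ (Fintype.card F - 2) := by
        apply inv_eq_of_mul_eq_one_left
        rw [← pow_succ]
        have : Fintype.card F - 2 + 1 = Fintype.card F - 1 := by omega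
        rw [this, h1]
      rw [h4]
      exact Sc_pow hM h3 hc _

theorem mem_of_Sc_top (htop : ∀ c : F, c ∈ Sc M) (f : Dual F (ι → F)) (v : ι → F) (hfv : f v = 0) :
    LinearEquiv.transvection hfv ∈ M := by
  classical
  apply transvection_mem_of_fullSub_eq_top
  have hfull : ∀ i : ι, (bv i : ι → F) ∈ fullSub M := by
    intro i φ hφ
    have hsum : φ = ∑ j, φ (bv j) • (pr j : Dual F (ι → F)) := by
      apply dual_ext
      intro k
      rw [LinearMap.sum_apply]
      simp only [LinearMap.smul_apply, pr_bv, smul_eq_mul, mul_ite, mul_one, mul_zero]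
      simp
    rw [hsum]
    have : ∀ s : Finset ι, TX M (bv i) (∑ j ∈ s, φ (bv j) • (pr j : Dual F (ι → F))) := by
      intro s
      induction s using Finset.induction_on with
      | empty => simpa using TX_zero_right (M := M) (bv i : ι → F)
      | insert a s ha ih =>
        rw [Finset.sum_insert ha]
        refine TX.add_right ?_ ih
        by_cases hai : a = i
        · subst hai
          rw [hφ, zero_smul]
          exact TX_zero_right _
        · rw [← TX_smul_comm]
          exact htop _ i a (Ne.symm hai)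
    exact this _
  rw [eq_top_iff]
  intro x _
  have hx : x = ∑ i, x i • (bv i : ι → F) := by
    conv_lhs => rw [← Finset.univ_sum_single x]
    apply Finset.sum_congr rfl
    intro i _
    rw [single_eq_smul]
  rw [hx]
  exact Submodule.sum_mem _ (fun i _ => Submodule.smul_mem _ _ (hfull i))

/-- **Main theorem.** -/
theorem transvection_mem_of_not_scalar [Fintype F] (hM : HasRat F₀ M) (h3 : 3 ≤ Fintype.card ι)
    (hdich : ∀ K : Subfield F, F₀ ≤ K → K = F₀ ∨ K = ⊤)
    {g : (ι → F) ≃ₗ[F] (ι → F)} (hg : g ∈ M)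
    (hgn : ¬ ∃ c : F, c ≠ 0 ∧ ∀ i, Rat F₀ (c • g (bv i)))
    (f : Dual F (ι → F)) (v : ι → F) (hfv : f v = 0) :
    LinearEquiv.transvection hfv ∈ M := by
  by_cases hS : ∀ c ∈ Sc M, c ∈ F₀
  · exact (hgn (exists_scalar hM h3 hS hdich hg)).elim
  · apply mem_of_Sc_top
    have hle : F₀ ≤ ScField hM h3 := fun c hc => Sc_of_mem hM hc
    rcases hdich _ hle with h | h
    · exfalso
      apply hS
      intro c hc
      have : c ∈ ScField hM h3 := hc
      rwa [h] at this
    · intro c
      have : c ∈ ScField hM h3 := by rw [h]; exact Subfield.mem_top c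
      exact this

/-- no intermediate fields in an extension of prime degree -/
theorem subfield_dich [Fintype F] (F₀ : Subfield F) {r : ℕ} (hr : r.Prime)
    (hcard : Fintype.card F = Nat.card F₀ ^ r) (K : Subfield F) (hK : F₀ ≤ K) :
    K = F₀ ∨ K = ⊤ := by
  letI : Algebra F₀ K := (Subfield.inclusion hK).toAlgebra
  have h1 : Nat.card K = Nat.card F₀ ^ finrank F₀ K := Module.natCard_eq_pow_finrank
  have h2 : Nat.card F = Nat.card K ^ finrank K F := Module.natCard_eq_pow_finrank
  rw [Nat.card_eq_fintype_card, hcard, h1, ← pow_mul] at h2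
  have hq : 1 < Nat.card F₀ := Finite.one_lt_card
  have h3 : r = finrank F₀ K * finrank K F := Nat.pow_right_injective hq h2
  have h4 : finrank F₀ K ∣ r := ⟨_, h3⟩
  rcases (Nat.dvd_prime hr).1 h4 with h5 | h5
  · left
    rw [h5, pow_one] at h1
    symm
    apply SetLike.coe_injective
    apply Set.eq_of_subset_of_ncard_le hK _ (Set.toFinite _)
    rw [← Nat.card_coe_set_eq, ← Nat.card_coe_set_eq]
    exact h1.le
  · right
    rw [h5] at h1
    rw [eq_top_iff]
    have : (K : Set F) = Set.univ := by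
      apply Set.eq_of_subset_of_ncard_le (Set.subset_univ _) _ (Set.toFinite _)
      rw [Set.ncard_univ, Nat.card_eq_fintype_card, hcard, ← h1, ← Nat.card_coe_set_eq]
      exact le_refl _
    intro x _
    have : x ∈ (K : Set F) := by rw [this]; trivial
    exact this

end Cfsg.Agent.Lib.Helper7.SubF
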