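import Mathlib
import Cfsg.Prelude.Def_GeometricClasses
import Cfsg.Agent.Lib.Helper7.SubF.Main
import Cfsg.Agent.Lib.Helper95.Glue2
import Cfsg.Agent.Lib.Helper95.SLGen

set_option autoImplicit false
set_option linter.unusedSimpArgs false
set_option linter.unusedSectionVars false
set_option linter.unusedVariables false

/-! Glue between the subfield subgroups of `GL ι F` and rational linear automorphisms. -/

namespace Cfsg.Agent.Lib.Helper7.SubF

open Module Cfsg.Agent.Lib.Helper97 Cfsg.Agent.Lib.Helper95 Matrix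

theorem isMaximalIn_map {G : Type*} [Group G] (e : G ≃* G) {K H : Subgroup G}
    (h : Cfsg.Geo.IsMaximalIn K H) :
    Cfsg.Geo.IsMaximalIn (K.map e.toMonoidHom) (H.map e.toMonoidHom) := by
  obtain ⟨h1, h2⟩ := h
  have hinj : Function.Injective e.toMonoidHom := e.injective
  have hsurj : Function.Surjective e.toMonoidHom := e.surjective
  refine ⟨(Subgroup.map_lt_map_iff_of_injective hinj).2 h1, fun M hM1 hM2 => ?_⟩
  have a1 : H ≤ M.comap e.toMonoidHom := Subgroup.map_le_iff_le_comap.1 hM1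
  have a2 : M.comap e.toMonoidHom ≤ K := by
    have := Subgroup.comap_mono (f := e.toMonoidHom) hM2
    rwa [Subgroup.comap_map_eq_self_of_injective hinj] at this
  rcases h2 _ a1 a2 with h | h
  · left
    rw [← h, Subgroup.map_comap_eq_self_of_surjective hsurj]
  · right
    rw [← h, Subgroup.map_comap_eq_self_of_surjective hsurj]

theorem isMaximalIn_conj {G : Type*} [Group G] {K H : Subgroup G} [hK : K.Normal] (P : G)
    (h : Cfsg.Geo.IsMaximalIn K (H ⊓ K)) :
    Cfsg.Geo.IsMaximalIn K (H.map (MulAut.conj P).toMonoidHom ⊓ K) := by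
  have hKmap : K.map (MulAut.conj P).toMonoidHom = K := by
    ext x
    constructor
    · rintro ⟨y, hy, rfl⟩
      exact hK.conj_mem y hy P
    · intro hx
      refine ⟨P⁻¹ * x * P, ?_, ?_⟩
      · have := hK.conj_mem x hx P⁻¹
        simpa using this
      · simp [MulAut.conj_apply, mul_assoc]
  have := isMaximalIn_map (MulAut.conj P) h
  rw [Subgroup.map_inf _ _ _ (MulAut.conj P).injective, hKmap] at this
  exact this

variable {ι : Type} [Fintype ι] [DecidableEq ι] {F : Type*} [Field F] (F₀ : Subfield F)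

/-- the subfield group in standard position -/
def S1 : Subgroup (GL ι F) :=
  (Matrix.GeneralLinearGroup.map (F₀.subtype : F₀ →+* F)).range ⊔ Cfsg.Geo.scalars ι F

variable {F₀}

theorem mem_range_of_entries (g : GL ι F) (h : ∀ i j, (g : Matrix ι ι F) i j ∈ F₀) :
    g ∈ (Matrix.GeneralLinearGroup.map (n := ι) (F₀.subtype : F₀ →+* F)).range := by
  set A : Matrix ι ι F₀ := fun i j => ⟨(g : Matrix ι ι F) i j, h i j⟩ with hA
  have hmap : A.map F₀.subtype = (g : Matrix ι ι F) := by
    ext i j; rfl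
  have hdet : A.det ≠ 0 := by
    intro h0
    have h1 : F₀.subtype A.det = (A.map F₀.subtype).det := RingHom.map_det _ _
    rw [h0, map_zero, hmap] at h1
    have h2 : (g : Matrix ι ι F).det ≠ 0 := by
      have := (Matrix.isUnit_iff_isUnit_det _).1 g.isUnit
      exact this.ne_zero
    exact h2 h1.symm
  refine ⟨Matrix.GeneralLinearGroup.mkOfDetNeZero A hdet, ?_⟩
  apply Units.ext
  exact hmap

theorem mem_S1_of_entries (g : GL ι F) {c : F} (hc : c ≠ 0)
    (h : ∀ i j, c * (g : Matrix ι ι F) i j ∈ F₀) : g ∈ S1 (ι := ι) F₀ := by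
  set s : GL ι F := Units.map (Matrix.scalar ι : F →+* Matrix ι ι F).toMonoidHom (Units.mk0 c hc)
    with hs
  have hsm : s ∈ Cfsg.Geo.scalars ι F := ⟨_, rfl⟩
  have hsv : (s : Matrix ι ι F) = Matrix.scalar ι c := rfl
  have h1 : s * g ∈ (Matrix.GeneralLinearGroup.map (n := ι) (F₀.subtype : F₀ →+* F)).range := by
    apply mem_range_of_entries
    intro i j
    have : ((s * g : GL ι F) : Matrix ι ι F) i j = c * (g : Matrix ι ι F) i j := by
      rw [Units.val_mul, hsv]
      simp [Matrix.scalar_apply, Matrix.diagonal_mul]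
    rw [this]
    exact h i j
  have : g = s⁻¹ * (s * g) := by group
  rw [this]
  exact Subgroup.mul_mem _ (Subgroup.inv_mem _ ((le_sup_right : _ ≤ S1 F₀) hsm))
    ((le_sup_left : _ ≤ S1 F₀) h1)

theorem entries_of_mem_S1 {g : GL ι F} (h : g ∈ S1 (ι := ι) F₀) :
    ∃ c : F, c ≠ 0 ∧ ∀ i j, c * (g : Matrix ι ι F) i j ∈ F₀ := by
  haveI : (Cfsg.Geo.scalars ι F).Normal := by
    constructor
    intro n hn x
    obtain ⟨c, hc⟩ := (Cfsg.Geo.mem_scalars_iff n).1 hn
    have : x * n * x⁻¹ = n := by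
      rw [mul_inv_eq_iff_eq_mul]
      apply Units.ext
      rw [Units.val_mul, Units.val_mul, hc]
      simp
    rw [this]; exact hn
  rw [S1, ← SetLike.mem_coe, Subgroup.mul_normal, Set.mem_mul] at h
  obtain ⟨a, ⟨a₀, rfl⟩, s, hs, rfl⟩ := h
  obtain ⟨c, hc⟩ := (Cfsg.Geo.mem_scalars_iff s).1 hs
  refine ⟨(c : F)⁻¹, inv_ne_zero c.ne_zero, fun i j => ?_⟩
  rw [Units.val_mul, hc]
  have e : ((Matrix.GeneralLinearGroup.map (n := ι) (F₀.subtype : F₀ →+* F) a₀ : GL ι F) :
      Matrix ι ι F) i j = ((a₀ : Matrix ι ι F₀) i j : F) := rfl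
  simp only [Matrix.mul_smul, Matrix.mul_one, Matrix.smul_apply, smul_eq_mul, e]
  rw [← mul_assoc, inv_mul_cancel₀ c.ne_zero, one_mul]
  exact ((a₀ : Matrix ι ι F₀) i j).2

theorem glEquiv_symm_entry (e : (ι → F) ≃ₗ[F] (ι → F)) (i j : ι) :
    ((glEquiv.symm e : GL ι F) : Matrix ι ι F) i j = e (bv j) i := by
  rw [← glEquiv_symm_mulVec e (bv j)]
  simp

theorem mem_toLinGrp_S1_iff (e : (ι → F) ≃ₗ[F] (ι → F)) :
    e ∈ toLinGrp (S1 (ι := ι) F₀) ↔ ∃ c : F, c ≠ 0 ∧ ∀ i, Rat F₀ (c • e (bv i)) := by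
  rw [mem_toLinGrp]
  constructor
  · intro h
    obtain ⟨c, hc, h1⟩ := entries_of_mem_S1 h
    refine ⟨c, hc, fun j i => ?_⟩
    have := h1 i j
    rw [glEquiv_symm_entry] at this
    exact this
  · rintro ⟨c, hc, h1⟩
    refine mem_S1_of_entries _ hc (fun i j => ?_)
    rw [glEquiv_symm_entry]
    exact h1 j i

/-- the subfield group is maximal in `SL_n(F)` -/
theorem subfield_maximal [Fintype F] (h3 : 3 ≤ Fintype.card ι) {r : ℕ} (hr : r.Prime)
    (hcard : Fintype.card F = Nat.card F₀ ^ r) (P : GL ι F) :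
    Cfsg.Geo.IsMaximalIn (Cfsg.Geo.specialLinear ι F)
      (Cfsg.Geo.subfieldSubgroup F₀ P ⊓ Cfsg.Geo.specialLinear ι F) := by
  haveI : (Cfsg.Geo.specialLinear ι F).Normal := by
    unfold Cfsg.Geo.specialLinear; infer_instance
  have : Nontrivial ι := Fintype.one_lt_card_iff_nontrivial.1 (by omega)
  apply isMaximalIn_conj (H := S1 F₀) P
  refine isMaximalIn_transfer (S' := toLinGrp (S1 F₀)) mem_specialLinear_iff'
    (fun g => glEquiv_mem_toLinGrp.symm) ?_ ?_
  · -- a transvection that is not rational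
    obtain ⟨lam, hlam⟩ : ∃ lam : F, lam ∉ F₀ := by
      by_contra hcon
      push Not at hcon
      have htop : F₀ = ⊤ := eq_top_iff.2 (fun x _ => hcon x)
      have h1 : Nat.card F₀ = Fintype.card F := by
        rw [htop, ← Nat.card_eq_fintype_card]
        exact Nat.card_congr Subfield.topEquiv.toEquiv
      rw [h1] at hcard
      have h2 : 1 < Fintype.card F := Fintype.one_lt_card
      have h4 : Fintype.card F ^ 1 = Fintype.card F ^ r := by rw [pow_one]; exact hcard
      have := Nat.pow_right_injective h2 h4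
      exact hr.one_lt.ne this
    obtain ⟨i, j, hij⟩ := exists_pair_ne ι
    have h0 : (pr j : Dual F (ι → F)) (lam • bv i) = 0 := by simp [hij.symm]
    refine ⟨LinearEquiv.transvection h0, LinearEquiv.transvection.det_eq_one _, fun hmem => ?_⟩
    obtain ⟨c, hc, h1⟩ := (mem_toLinGrp_S1_iff _).1 hmem
    have a1 := h1 j j
    have a2 := h1 j i
    rw [LinearEquiv.transvection.apply] at a1 a2
    simp [hij, hij.symm] at a1 a2
    apply hlam
    have := F₀.div_mem a2 a1
    rwa [mul_div_cancel_left₀ _ hc] at this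
  · intro M' h1 _ g hg hgS
    apply slGrp_le_of_transvections
    refine transvection_mem_of_not_scalar (F₀ := F₀) ?_ h3 (subfield_dich F₀ hr hcard) hg ?_
    · intro v φ hv hφ h0
      refine ⟨h0, h1 (Subgroup.mem_inf.2 ⟨LinearEquiv.transvection.det_eq_one _, ?_⟩)⟩
      rw [mem_toLinGrp_S1_iff]
      refine ⟨1, one_ne_zero, fun i => ?_⟩
      rw [one_smul, LinearEquiv.transvection.apply]
      exact (rat_bv i).add (hv.smul (hφ i))
    · intro h
      exact hgS ((mem_toLinGrp_S1_iff g).2 h)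

end Cfsg.Agent.Lib.Helper7.SubF
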